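import Groth.Agent.Lead.GrPres.Mod
import Groth.Agent.L16.QCohSections
import Groth.Agent.L16.ProjSpace.QuotTwist
import Groth.Prelude.Def_GrMod2

/-!
A coherent module on `Proj` is the module attached to a graded module.
-/

set_option autoImplicit false
set_option linter.style.haveILetI false
set_option linter.unusedSectionVars false
set_option backward.defeqAttrib.useBackward true
set_option backward.isDefEq.respectTransparency false
set_option backward.isDefEq.respectTransparency.types false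

universe u

open CategoryTheory AlgebraicGeometry TopologicalSpace Opposite DirectSum

noncomputable section

namespace Groth.Lead.GrPres

open Groth.L18.Frame (rs ro rs_rs rs_self rs_smul)
open Groth.L16.ProjTwist (notMem_pow notMem_mul)

variable {R A : Type u} [CommRing R] [CommRing A] [Algebra R A] {𝒜 : ℕ → Submodule R A} [GradedAlgebra 𝒜]
variable {b : ℕ} {r : ℕ} {F : (Proj 𝒜).Modules} (q : Fin r → (Twist.twist 𝒜 (-(b : ℤ)) ⟶ F))

/-- sections of the associated module -/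
abbrev Sec' (U : (Proj 𝒜).Opens) := GrTilde.sect 𝒜 (gr q) 0 (op U)

theorem D_mul_le_left (s t : A) : D 𝒜 (s * t) ≤ D 𝒜 s := by
  rw [D, D, Proj.basicOpen_mul]; exact inf_le_left

theorem le_D_mul {W : (Proj 𝒜).Opens} {s t : A} (h : W ≤ D 𝒜 s) (h' : W ≤ D 𝒜 t) : W ≤ D 𝒜 (s * t) := by
  rw [D, Proj.basicOpen_mul]; exact le_inf h h'

theorem rs0 {U V : (Proj 𝒜).Opens} (h : V ≤ U) : rs F h (0 : Γ(F, U)) = 0 := map_zero _

/-- multiplication of a section by a function -/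
def smulS {U : (Proj 𝒜).Opens} (c : Γ(Proj 𝒜, U)) (f : Sec' q U) : Sec' q U :=
  ⟨fun x => c.1 x • f.1 x,
    GrTilde.smul_mem' (𝒜 := 𝒜) (ℳ := gr q) 0 (op (U : Opens (ProjectiveSpectrum.top 𝒜))) c f.1 f.2⟩

/-- `f` is `v / s` on `V` -/
def IsRep {U : (Proj 𝒜).Opens} (f : Sec' q U) {V : (Proj 𝒜).Opens} (hV : V ≤ U) (v : Fin r → A) {s : A}
    (hVs : V ≤ D 𝒜 s) : Prop :=
  ∀ (y : Proj 𝒜) (hy : y ∈ V), (f.1 ⟨y, hV hy⟩).1 = LocalizedModule.mk ((rel q).mkQ v) ⟨s, notMem_of_le hVs hy⟩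

theorem exists_rep {U : (Proj 𝒜).Opens} (f : Sec' q U) {x : Proj 𝒜} (hx : x ∈ U) :
    ∃ (V : (Proj 𝒜).Opens) (hV : V ≤ U) (n : ℕ) (v : Fin r → A) (_ : v ∈ free 𝒜 b r n) (s : A) (_ : s ∈ 𝒜 n)
      (hVs : V ≤ D 𝒜 s), x ∈ V ∧ IsRep q f hV v hVs := by
  obtain ⟨V, hxV, iV, i, j, m, s, nin, hd, hw⟩ := f.2 ⟨x, hx⟩
  obtain ⟨v, hv, hvm⟩ : ∃ v ∈ free 𝒜 b r j, (rel q).mkQ v = m.1 := by
    rcases hd with h | h
    · obtain ⟨v, hv, hvm⟩ := m.2
      have : i = j := by omega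
      subst this
      exact ⟨v, hv, hvm⟩
    · exact ⟨0, zero_mem _, by rw [map_zero, h]⟩
  refine ⟨V, iV.le, j, v, hv, s.1, s.2, fun y hy => (Proj.mem_basicOpen _ _ _).2 (nin ⟨y, hy⟩), hxV, fun y hy => ?_⟩
  rw [hvm]
  exact hw ⟨y, hy⟩

/-- independence of the fraction -/
theorem exists_val_eq {U V V' : (Proj 𝒜).Opens} {f : Sec' q U} {hV : V ≤ U} {hV' : V' ≤ U} {n n' : ℕ}
    {v v' : Fin r → A} (hv : v ∈ free 𝒜 b r n) (hv' : v' ∈ free 𝒜 b r n') {s s' : A} (hs : s ∈ 𝒜 n)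
    (hs' : s' ∈ 𝒜 n') {hVs : V ≤ D 𝒜 s} {hVs' : V' ≤ D 𝒜 s'} (h : IsRep q f hV v hVs) (h' : IsRep q f hV' v' hVs')
    {x : Proj 𝒜} (hx : x ∈ V) (hx' : x ∈ V') :
    ∃ (W : (Proj 𝒜).Opens) (h₁ : W ≤ D 𝒜 s) (h₂ : W ≤ D 𝒜 s'), x ∈ W ∧ W ≤ V ∧ W ≤ V' ∧
      val q v hv s hs W h₁ = val q v' hv' s' hs' W h₂ := by
  obtain ⟨u, hu⟩ := LocalizedModule.mk_eq.1 ((h x hx).symm.trans (h' x hx'))
  simp only [Submonoid.smul_def] at hu
  obtain ⟨k, hk⟩ := Groth.L18.GrT.exists_hom_notMem (show u.1 ∉ (x : ProjectiveSpectrum 𝒜).asHomogeneousIdeal from u.2)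
  let c := GradedRing.proj 𝒜 k u.1
  have hc : c ∈ 𝒜 k := Groth.L18.proj_mem 𝒜 _ k
  have h1 : s' • v ∈ free 𝒜 b r (n' + n) := free_smul hs' hv
  have h2 : s • v' ∈ free 𝒜 b r (n' + n) := by rw [add_comm]; exact free_smul hs hv'
  have hmem : u.1 • (s' • v - s • v') ∈ rel q := by
    rw [← Submodule.Quotient.mk_eq_zero, smul_sub, Submodule.Quotient.mk_sub, sub_eq_zero]
    exact hu
  have hK : Kill q (k + (n' + n)) (c • (s' • v - s • v')) := by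
    have := kill_of_mem q hmem (k + (n' + n))
    rwa [Groth.L18.decompose_smul_of_mem 𝒜 (free 𝒜 b r) (sub_mem h1 h2), if_pos (Nat.le_add_left _ _),
      Nat.add_sub_cancel] at this
  let W := V ⊓ V' ⊓ D 𝒜 c
  have hWs : W ≤ D 𝒜 s := (inf_le_left.trans inf_le_left).trans hVs
  have hWs' : W ≤ D 𝒜 s' := (inf_le_left.trans inf_le_right).trans hVs'
  have hT : c * (s' * s) ∈ 𝒜 (k + (n' + n)) := SetLike.mul_mem_graded hc (SetLike.mul_mem_graded hs' hs)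
  have hWT : W ≤ D 𝒜 (c * (s' * s)) := le_D_mul inf_le_right (le_D_mul hWs' hWs)
  refine ⟨W, hWs, hWs', ⟨⟨hx, hx'⟩, (Proj.mem_basicOpen _ _ _).2 hk⟩, inf_le_left.trans inf_le_left,
    inf_le_left.trans inf_le_right, ?_⟩
  have e0 := congrArg (rs F hWT) (hK.2 0 1 SetLike.GradedOne.one_mem (c * (s' * s)) (by rw [zero_add]; exact hT))
  rw [rs_val, rs0] at e0
  have hT' : c * (s' * s) ∈ 𝒜 (0 + (k + (n' + n))) := by rw [zero_add]; exact hT
  have m1 : c • (s' • v) ∈ free 𝒜 b r (0 + (k + (n' + n))) := by rw [zero_add]; exact free_smul hc h1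
  have m2 : c • (s • v') ∈ free 𝒜 b r (0 + (k + (n' + n))) := by rw [zero_add]; exact free_smul hc h2
  have m3 : c • (s' • v - s • v') ∈ free 𝒜 b r (0 + (k + (n' + n))) := by
    rw [zero_add]; exact free_smul hc (sub_mem h1 h2)
  have e1 : val q (c • (s' • v - s • v')) m3 _ hT' W hWT = 0 :=
    (val_ext q m3 _ hT' hT' hWT hWT (by rw [one_smul])).trans e0
  have e2 : val q (c • (s' • v)) m1 _ hT' W hWT = val q (c • (s • v')) m2 _ hT' W hWT := by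
    have := (val_add q m3 m2 hT' hWT).trans
      ((congrArg (· + val q _ m2 _ hT' W hWT) e1).trans (zero_add (val q _ m2 _ hT' W hWT)))
    exact (val_ext q m1 (add_mem m3 m2) hT' hT' hWT hWT (by rw [← smul_add, sub_add_cancel])).trans this
  refine (val_ext q hv m1 hs hT' hWs hWT ?_).trans (e2.trans (val_ext q m2 hv' hT' hs' hWT hWs' ?_))
  · simp only [smul_smul]; congr 1; ring
  · simp only [smul_smul]; congr 1; ring

/-- `g` is the value of `f` -/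
def Rel {U : (Proj 𝒜).Opens} (f : Sec' q U) (g : Γ(F, U)) : Prop :=
  ∀ x ∈ U, ∃ (V : (Proj 𝒜).Opens) (hV : V ≤ U) (n : ℕ) (v : Fin r → A) (hv : v ∈ free 𝒜 b r n) (s : A)
    (hs : s ∈ 𝒜 n) (hVs : V ≤ D 𝒜 s), x ∈ V ∧ IsRep q f hV v hVs ∧ rs F hV g = val q v hv s hs V hVs

theorem Rel.unique {U : (Proj 𝒜).Opens} {f : Sec' q U} {g g' : Γ(F, U)} (h : Rel q f g) (h' : Rel q f g') :
    g = g' := by
  let OM : TopCat.Sheaf Ab.{u} (Proj 𝒜).toTopCat := ⟨F.presheaf, F.isSheaf⟩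
  have key : ∀ x : U, ∃ (W : (Proj 𝒜).Opens) (hW : W ≤ U), x.1 ∈ W ∧ rs F hW g = rs F hW g' := by
    rintro ⟨x, hx⟩
    obtain ⟨V, hV, n, v, hv, s, hs, hVs, hxV, hrep, hg⟩ := h x hx
    obtain ⟨V', hV', n', v', hv', s', hs', hVs', hxV', hrep', hg'⟩ := h' x hx
    obtain ⟨W, h₁, h₂, hxW, hWV, hWV', e⟩ := exists_val_eq q hv hv' hs hs' hrep hrep' hxV hxV'
    refine ⟨W, hWV.trans hV, hxW, ?_⟩
    rw [← rs_rs F hV hWV, hg, rs_val, ← rs_rs F hV' hWV', hg', rs_val]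
    exact e
  choose W hW hxW hWe using key
  exact OM.eq_of_locally_eq' W U (fun x => homOfLE (hW x))
    (fun x hx => Opens.mem_iSup.mpr ⟨⟨x, hx⟩, hxW _⟩) g g' hWe

/-- restriction -/
def resS {U V : (Proj 𝒜).Opens} (h : V ≤ U) (f : Sec' q U) : Sec' q V := GrTilde.res 𝒜 (gr q) 0 (homOfLE h).op f

theorem Rel.res {U : (Proj 𝒜).Opens} {f : Sec' q U} {g : Γ(F, U)} (h : Rel q f g) {U' : (Proj 𝒜).Opens}
    (hU : U' ≤ U) : Rel q (resS q hU f) (rs F hU g) := fun x hx => by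
  obtain ⟨V, hV, n, v, hv, s, hs, hVs, hxV, hrep, hg⟩ := h x (hU hx)
  refine ⟨V ⊓ U', inf_le_right, n, v, hv, s, hs, inf_le_left.trans hVs, ⟨hxV, hx⟩, fun y hy => hrep y hy.1, ?_⟩
  have := congrArg (rs F (inf_le_left : V ⊓ U' ≤ V)) hg
  rw [rs_rs, rs_val] at this
  rw [rs_rs]
  exact this

theorem exists_rel {U : (Proj 𝒜).Opens} (f : Sec' q U) : ∃ g, Rel q f g := by
  let OM : TopCat.Sheaf Ab.{u} (Proj 𝒜).toTopCat := ⟨F.presheaf, F.isSheaf⟩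
  have key : ∀ x : U, ∃ (W : (Proj 𝒜).Opens) (hW : W ≤ U) (g : Γ(F, W)), x.1 ∈ W ∧ Rel q (resS q hW f) g := by
    rintro ⟨x, hx⟩
    obtain ⟨V, hV, n, v, hv, s, hs, hVs, hxV, hrep⟩ := exists_rep q f hx
    exact ⟨V, hV, val q v hv s hs V hVs, hxV, fun y hy =>
      ⟨V, le_rfl, n, v, hv, s, hs, hVs, hy, fun z hz => hrep z hz, rs_self F _ _⟩⟩
  choose W hW g hxW hg using key
  obtain ⟨g₀, hg₀, -⟩ := OM.existsUnique_gluing' W U (fun x => homOfLE (hW x))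
    (fun x hx => Opens.mem_iSup.mpr ⟨⟨x, hx⟩, hxW _⟩) g fun k l => by
      show rs F inf_le_left (g k) = rs F inf_le_right (g l)
      exact Rel.unique q ((hg k).res q (inf_le_left : W k ⊓ W l ≤ W k))
        ((hg l).res q (inf_le_right : W k ⊓ W l ≤ W l))
  refine ⟨g₀, fun x hx => ?_⟩
  obtain ⟨V, hV, n, v, hv, s, hs, hVs, hxV, hrep, hgood⟩ := hg ⟨x, hx⟩ x (hxW ⟨x, hx⟩)
  refine ⟨V, hV.trans (hW ⟨x, hx⟩), n, v, hv, s, hs, hVs, hxV, hrep, ?_⟩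
  rw [← rs_rs F (hW ⟨x, hx⟩) hV, show rs F (hW ⟨x, hx⟩) g₀ = g ⟨x, hx⟩ from hg₀ ⟨x, hx⟩]
  exact hgood

theorem Rel.add {U : (Proj 𝒜).Opens} {f f' : Sec' q U} {g g' : Γ(F, U)} (h : Rel q f g) (h' : Rel q f' g') :
    Rel q (f + f') (g + g') := fun x hx => by
  obtain ⟨V, hV, n, v, hv, s, hs, hVs, hxV, hrep, hg⟩ := h x hx
  obtain ⟨V', hV', n', v', hv', s', hs', hVs', hxV', hrep', hg'⟩ := h' x hx
  have m1 : s' • v ∈ free 𝒜 b r (n' + n) := free_smul hs' hv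
  have m2 : s • v' ∈ free 𝒜 b r (n' + n) := by rw [add_comm]; exact free_smul hs hv'
  have hS : s' * s ∈ 𝒜 (n' + n) := SetLike.mul_mem_graded hs' hs
  have hW : V ⊓ V' ≤ D 𝒜 (s' * s) := le_D_mul (inf_le_right.trans hVs') (inf_le_left.trans hVs)
  refine ⟨V ⊓ V', inf_le_left.trans hV, n' + n, s' • v + s • v', add_mem m1 m2, s' * s, hS, hW, ⟨hxV, hxV'⟩,
    fun y hy => ?_, ?_⟩
  · show (f.1 ⟨y, _⟩).1 + (f'.1 ⟨y, _⟩).1 = _
    rw [hrep y hy.1, hrep' y hy.2, LocalizedModule.mk_add_mk, map_add, map_smul, map_smul]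
    congr 1
    exact Subtype.ext (mul_comm _ _)
  · have e1 := congrArg (rs F (inf_le_left : V ⊓ V' ≤ V)) hg
    have e2 := congrArg (rs F (inf_le_right : V ⊓ V' ≤ V')) hg'
    rw [rs_rs, rs_val] at e1 e2
    rw [show rs F _ (g + g') = rs F (inf_le_left.trans hV) g + rs F (inf_le_right.trans hV') g' from map_add _ _ _,
      e1, e2, val_add q m1 m2 hS hW]
    exact congrArg₂ (· + ·)
      (val_ext q hv m1 hs hS _ hW (by simp only [smul_smul]; congr 1; ring))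
      (val_ext q hv' m2 hs' hS _ hW (by simp only [smul_smul]))

theorem Rel.smul {U : (Proj 𝒜).Opens} {f : Sec' q U} {g : Γ(F, U)} (h : Rel q f g) (c : Γ(Proj 𝒜, U)) :
    Rel q (smulS q c f) (c • g) := fun x hx => by
  obtain ⟨V, hV, n, v, hv, s, hs, hVs, hxV, hrep, hg⟩ := h x hx
  obtain ⟨V', hxV', iV', k, ⟨c₁, h₁⟩, ⟨c₂, h₂⟩, nin, hw⟩ := c.2 ⟨x, hx⟩
  have hW : V ⊓ V' ≤ D 𝒜 (c₂ * s) :=
    le_D_mul (fun y hy => (Proj.mem_basicOpen _ _ _).2 (nin ⟨y, hy.2⟩)) (inf_le_left.trans hVs)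
  refine ⟨V ⊓ V', inf_le_left.trans hV, k + n, c₁ • v, free_smul h₁ hv, c₂ * s, SetLike.mul_mem_graded h₂ hs, hW,
    ⟨hxV, hxV'⟩, fun y hy => ?_, ?_⟩
  · refine (GrTilde.coe_smul_val (0 : ℤ) y (c.1 ⟨y, hV hy.1⟩) (f.1 ⟨y, hV hy.1⟩)).trans ?_
    rw [show c.1 ⟨y, hV hy.1⟩ = _ from hw ⟨y, hy.2⟩, hrep y hy.1, HomogeneousLocalization.val_mk,
      LocalizedModule.mk_smul_mk, map_smul]
    rfl
  · have e1 := congrArg (rs F (inf_le_left : V ⊓ V' ≤ V)) hg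
    rw [rs_rs, rs_val] at e1
    rw [rs_smul, e1]
    exact val_smul q hv hs h₁ h₂ _ hW _ fun y => ⟨nin ⟨y.1, y.2.2⟩,
      (congrArg HomogeneousLocalization.val (hw ⟨y.1, y.2.2⟩)).trans (HomogeneousLocalization.val_mk _)⟩

theorem exists_hom : ∃ φ : GrTilde.tilde 𝒜 (gr q) 0 ⟶ F,
    ∀ (U : (Proj 𝒜).Opens) (f : Sec' q U), Rel q f (φ.app U f) := by
  choose φ0 hφ0 using fun (U : (Proj 𝒜).Opens) (f : Sec' q U) => exists_rel q f
  have hadd : ∀ U (f f' : Sec' q U), φ0 U (f + f') = φ0 U f + φ0 U f' := fun U f f' =>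
    Rel.unique q (hφ0 U _) ((hφ0 U f).add q (hφ0 U f'))
  have hzero : ∀ U, φ0 U 0 = 0 := fun U => by
    have := hadd U 0 0
    rw [add_zero] at this
    exact left_eq_add.mp this
  have hnat : ∀ (U V : (Proj 𝒜).Opens) (h : V ≤ U) (f : Sec' q U), φ0 V (resS q h f) = rs F h (φ0 U f) :=
    fun U V h f => Rel.unique q (hφ0 V _) ((hφ0 U f).res q h)
  have hsmul : ∀ (U : (Proj 𝒜).Opens) (c : Γ(Proj 𝒜, U)) (f : Sec' q U),
      φ0 U (smulS q c f) = c • φ0 U f :=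
    fun U c f => Rel.unique q (hφ0 U _) ((hφ0 U f).smul q c)
  refine ⟨⟨PresheafOfModules.homMk
    { app := fun U => AddCommGrpCat.ofHom
        { toFun := fun (f : Sec' q U.unop) => (φ0 U.unop f : Γ(F, U.unop))
          map_zero' := hzero _
          map_add' := hadd _ }
      naturality := fun {U V} i => by
        ext f
        exact hnat U.unop V.unop i.unop.le f }
    (fun U c f => hsmul U.unop c f)⟩, fun U f => hφ0 U f⟩

variable [Coh.IsQCoh F] {ι : Type u} [Finite ι] {d : ℕ} (hd : 0 < d) (cov : ι → 𝒜 d)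
  (hcov : ∀ x : Proj 𝒜, ∃ i, x ∈ D 𝒜 (cov i).1)

include hd hcov in
theorem eq_zero_of_rel_zero {U : (Proj 𝒜).Opens} {f : Sec' q U} (h : Rel q f (0 : Γ(F, U))) : f = 0 := by
  classical
  refine Subtype.ext (funext fun x => Subtype.ext ?_)
  obtain ⟨x, hx⟩ := x
  obtain ⟨V, hV, n, v, hv, s, hs, hVs, hxV, hrep, hg⟩ := h x hx
  rw [rs0] at hg
  show (f.1 ⟨x, hx⟩).1 = 0
  rw [show (f.1 ⟨x, hx⟩).1 = _ from hrep x hxV]
  -- a homogeneous neighbourhood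
  obtain ⟨_, ⟨a₁, rfl⟩, hxa, haV⟩ :=
    (ProjectiveSpectrum.isTopologicalBasis_basic_opens 𝒜).exists_subset_of_mem_open hxV V.2
  obtain ⟨e₀, he₀⟩ := Groth.L18.GrT.exists_hom_notMem ((ProjectiveSpectrum.mem_basicOpen 𝒜 _ _).1 hxa)
  obtain ⟨i₀, hi₀⟩ := hcov x
  let a₂ := GradedRing.proj 𝒜 e₀ a₁ * (cov i₀).1
  have ha₂ : a₂ ∈ 𝒜 (e₀ + d) := SetLike.mul_mem_graded (Groth.L18.proj_mem 𝒜 _ e₀) (cov i₀).2
  let a := a₂ ^ d
  let Q₀ := e₀ + d
  have ha : a ∈ 𝒜 (Q₀ * d) := by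
    have := SetLike.pow_mem_graded d ha₂
    rwa [smul_eq_mul, mul_comm] at this
  have hxa' : x ∈ D 𝒜 a := (Proj.mem_basicOpen _ _ _).2
    (notMem_pow 𝒜 (notMem_mul 𝒜 he₀ ((Proj.mem_basicOpen _ _ _).1 hi₀)) d)
  have hxa2 : D 𝒜 a ≤ V := by
    intro y hy
    refine haV ((Proj.basicOpen_eq_iSup_proj 𝒜 a₁).ge (Opens.mem_iSup.mpr ⟨e₀, ?_⟩))
    refine (Proj.mem_basicOpen _ _ _).2 fun hm => (Proj.mem_basicOpen _ _ _).1 hy ?_
    exact Ideal.pow_mem_of_mem _ (Ideal.mul_mem_right _ _ hm) d hd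
  -- degree divisible by `d`
  let v' := s ^ (d - 1) • v
  let s' := s ^ d
  have hs' : s' ∈ 𝒜 (n * d) := by
    have := SetLike.pow_mem_graded d hs
    rwa [smul_eq_mul, mul_comm] at this
  have hv' : v' ∈ free 𝒜 b r (n * d) := by
    have := free_smul (SetLike.pow_mem_graded (d - 1) hs) hv
    have e : (d - 1) • n + n = n * d := by
      obtain ⟨d', rfl⟩ := Nat.exists_eq_add_of_lt hd
      simp only [smul_eq_mul, zero_add, Nat.add_sub_cancel]; ring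
    rwa [e] at this
  have hzero : ∀ W : (Proj 𝒜).Opens, ∀ (hW : W ≤ D 𝒜 s'), W ≤ V → val q v' hv' s' hs' W hW = 0 :=
    fun W hW hWV => by
    refine (val_ext q hv' hv hs' hs hW (hWV.trans hVs) ?_).trans ?_
    · show s • (s ^ (d - 1) • v) = s ^ d • v
      rw [smul_smul, ← pow_succ', Nat.sub_add_cancel hd]
    · have := congrArg (rs F hWV) hg
      rw [rs0, rs_val] at this
      exact this.symm
  have hVs' : V ≤ D 𝒜 s' := fun y hy => (Proj.mem_basicOpen _ _ _).2 (notMem_pow 𝒜 (notMem_of_le hVs hy) d)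
  -- kill on each chart
  have hpow : ∀ (i : ι) (m : ℕ), (cov i).1 ^ m ∈ 𝒜 (m * d) := fun i m => SetLike.pow_mem_graded m (cov i).2
  have hDp : ∀ (i : ι) (m : ℕ), D 𝒜 (cov i).1 ≤ D 𝒜 ((cov i).1 ^ m) := fun i m y hy =>
    (Proj.mem_basicOpen _ _ _).2 (notMem_pow 𝒜 ((Proj.mem_basicOpen _ _ _).1 hy) m)
  let z : ∀ i, Γ(F, D 𝒜 (cov i).1) := fun i => val q v' hv' ((cov i).1 ^ n) (hpow i n) _ (hDp i n)
  let α : ∀ i, Γ(Proj 𝒜, D 𝒜 (cov i).1) := fun i => fn 𝒜 a ((cov i).1 ^ Q₀) ha (hpow i Q₀) _ (hDp i Q₀)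
  have hk : ∀ i, ∃ N : ℕ, α i ^ N • z i = 0 := fun i => by
    refine Groth.L16.QCohSect.exists_pow_smul_eq_zero (Proj.isAffineOpen_basicOpen 𝒜 _ (cov i).2 hd) F (α i) (z i) ?_
    let W := (Proj 𝒜).basicOpen (α i)
    have hWV : W ≤ V := (basicOpen_fn_le ha (hpow i Q₀) (hDp i Q₀)).trans hxa2
    have hWf : W ≤ D 𝒜 ((cov i).1 ^ n) := ((Proj 𝒜).basicOpen_le _).trans (hDp i n)
    rw [rs_val]
    have hW2 : W ≤ D 𝒜 ((cov i).1 ^ n * s') := le_D_mul hWf (hWV.trans hVs')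
    have e := val_smul q hv' hs' hs' (hpow i n) (hWV.trans hVs') hW2
      (fn 𝒜 s' ((cov i).1 ^ n) hs' (hpow i n) W hWf) (fn_val hs' (hpow i n) hWf)
    rw [hzero W _ hWV, smul_zero] at e
    exact (val_ext q hv' (free_smul hs' hv') (hpow i n)
      (SetLike.mul_mem_graded (hpow i n) hs') hWf hW2 (by simp only [smul_smul])).trans e.symm
  choose N hN using hk
  cases nonempty_fintype ι
  let M := Finset.univ.sup N
  have hN' : ∀ i, α i ^ M • z i = 0 := fun i => by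
    obtain ⟨e, he⟩ := Nat.exists_eq_add_of_le (Finset.le_sup (f := N) (Finset.mem_univ i))
    rw [show M = N i + e from he, pow_add, mul_comm, mul_smul, hN, smul_zero]
  have haM : a ^ M ∈ 𝒜 (M * (Q₀ * d)) := SetLike.pow_mem_graded M ha
  let w := a ^ M • v'
  have hK : Kill q (M * (Q₀ * d) + n * d) w := by
    refine ⟨free_smul haM hv', fun k h hh t ht => ?_⟩
    let OM : TopCat.Sheaf Ab.{u} (Proj 𝒜).toTopCat := ⟨F.presheaf, F.isSheaf⟩
    refine OM.eq_of_locally_eq' (fun i => D 𝒜 t ⊓ D 𝒜 (cov i).1) _ (fun i => homOfLE inf_le_left)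
      (fun y hy => let ⟨i, hi⟩ := hcov y; Opens.mem_iSup.mpr ⟨i, hy, hi⟩) _ 0 fun i => ?_
    show rs F inf_le_left (val q (h • w) _ t ht (D 𝒜 t) le_rfl) = rs F inf_le_left (0 : Γ(F, D 𝒜 t))
    rw [rs_val, rs0]
    let W := D 𝒜 t ⊓ D 𝒜 (cov i).1
    have hWt : W ≤ D 𝒜 t := inf_le_left
    have hWf : W ≤ D 𝒜 (cov i).1 := inf_le_right
    -- the killed section
    have hM2 : ((cov i).1 ^ Q₀) ^ M ∈ 𝒜 (M * (Q₀ * d)) := SetLike.pow_mem_graded M (hpow i Q₀)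
    have hWT : W ≤ D 𝒜 (((cov i).1 ^ Q₀) ^ M * (cov i).1 ^ n) :=
      le_D_mul (fun y hy => (Proj.mem_basicOpen _ _ _).2
        (notMem_pow 𝒜 (notMem_of_le (hWf.trans (hDp i Q₀)) hy) M)) (hWf.trans (hDp i n))
    have e0 := congrArg (rs F hWf) (hN' i)
    rw [rs_smul, rs0, rs_val] at e0
    rw [val_smul q hv' (hpow i n) haM hM2 (hWf.trans (hDp i n)) hWT _
      (fun y => fn_pow_val ha (hpow i Q₀) (hDp i Q₀) M ⟨y.1, hWf y.2⟩)] at e0
    -- transport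
    have hT : ((cov i).1 ^ Q₀) ^ M * (cov i).1 ^ n ∈ 𝒜 (M * (Q₀ * d) + n * d) :=
      SetLike.mul_mem_graded hM2 (hpow i n)
    have hr : h * (((cov i).1 ^ Q₀) ^ M * (cov i).1 ^ n) ∈ 𝒜 (k + (M * (Q₀ * d) + n * d)) :=
      SetLike.mul_mem_graded hh hT
    have hW2 : W ≤ D 𝒜 (t * (((cov i).1 ^ Q₀) ^ M * (cov i).1 ^ n)) := le_D_mul hWt hWT
    have e2 := val_smul q (free_smul haM hv') hT hr ht hWT hW2
      (fn 𝒜 _ t hr ht W hWt) (fn_val hr ht hWt)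
    rw [e0, smul_zero] at e2
    refine (val_ext q _ (free_smul hr (free_smul haM hv')) ht (SetLike.mul_mem_graded ht hT) hWt hW2 ?_).trans
      e2.symm
    simp only [w, smul_smul]
    congr 1
    ring
  rw [← LocalizedModule.zero_mk ⟨s, notMem_of_le hVs hxV⟩, LocalizedModule.mk_eq]
  refine ⟨⟨a ^ M * s ^ (d - 1), notMem_mul 𝒜 (notMem_pow 𝒜 ((Proj.mem_basicOpen _ _ _).1 hxa') M)
    (notMem_pow 𝒜 (notMem_of_le hVs hxV) _)⟩, ?_⟩
  simp only [Submonoid.smul_def, smul_zero]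
  rw [← map_smul, ← map_smul]
  refine (Submodule.Quotient.mk_eq_zero _).2 ?_
  rw [smul_comm, show (a ^ M * s ^ (d - 1)) • v = w from mul_smul _ _ _]
  exact Submodule.smul_mem _ _ (Submodule.subset_span ⟨_, hK⟩)

/-- the section `v / s` -/
def gen {n : ℕ} {v : Fin r → A} (hv : v ∈ free 𝒜 b r n) {s : A} (hs : s ∈ 𝒜 n) (W : (Proj 𝒜).Opens)
    (hW : W ≤ D 𝒜 s) : Sec' q W :=
  ⟨fun y => ⟨LocalizedModule.mk ((rel q).mkQ v) ⟨s, notMem_of_le hW y.2⟩,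
      Submodule.subset_span ⟨n, n, ⟨_, mk_mem q hv⟩, ⟨s, hs⟩, notMem_of_le hW y.2, by simp, rfl⟩⟩,
    fun y => ⟨W, y.2, 𝟙 _, n, n, ⟨_, mk_mem q hv⟩, ⟨s, hs⟩, fun z => notMem_of_le hW z.2, Or.inl (by simp),
      fun _ => rfl⟩⟩

include hd hcov in
theorem nonempty_iso
    (hsurj : ∀ (U : (Proj 𝒜).Opens) (g : Γ(F, U)) (x : Proj 𝒜), x ∈ U → ∃ (V : (Proj 𝒜).Opens) (hV : V ≤ U)
      (w : Fin r → Γ(Twist.twist 𝒜 (-(b : ℤ)), V)), x ∈ V ∧ rs F hV g = ∑ j, (q j).app V (w j)) :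
    Nonempty (GrTilde.tilde 𝒜 (gr q) 0 ≅ F) := by
  classical
  obtain ⟨φ, hφ⟩ := exists_hom q
  have hinj : ∀ U : (Proj 𝒜).Opens, Function.Injective (φ.app U) := fun U =>
    (injective_iff_map_eq_zero _).2 fun f hf => eq_zero_of_rel_zero q hd cov hcov (by rw [← hf]; exact hφ U f)
  have key : ∀ (U : (Proj 𝒜).Opens) (g : Γ(F, U)) (x : Proj 𝒜), x ∈ U → ∃ (W : (Proj 𝒜).Opens) (hW : W ≤ U)
      (f : Sec' q W), x ∈ W ∧ φ.app W f = rs F hW g := fun U g x hx => by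
    obtain ⟨V, hV, w, hxV, hg⟩ := hsurj U g x hx
    choose Vj hxj iV ij jj a s nin hcond hw using fun j =>
      ((w j : Twist.sectN (-(b : ℤ)) (op V))).2 ⟨x, hxV⟩
    let W : (Proj 𝒜).Opens := V ⊓ Finset.univ.inf Vj
    have hWj : ∀ j, W ≤ Vj j := fun j => inf_le_right.trans (Finset.inf_le (Finset.mem_univ j))
    have hxW : x ∈ W := ⟨hxV, by
      suffices ∀ t : Finset (Fin r), x ∈ t.inf Vj from this _
      intro t
      induction t using Finset.induction with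
      | empty => exact Opens.mem_top x
      | insert j t _ ih => rw [Finset.inf_insert]; exact ⟨hxj j, ih⟩⟩
    let S := ∏ j, (s j).1
    have hS : S ∈ 𝒜 (∑ j, jj j) := SetLike.prod_mem_graded 𝒜 jj (fun j => (s j).1) fun j _ => (s j).2
    let v : Fin r → A := fun j => (∏ l ∈ Finset.univ.erase j, (s l).1) * (a j).1
    have hash : ∀ j, (a j).1 ∈ sh 𝒜 b (jj j) := fun j =>
      mem_sh (a j).2 ((hcond j).imp (fun h => by omega) id)
    have hv : v ∈ free 𝒜 b r (∑ j, jj j) := free_mem.2 fun j => by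
      rw [← Finset.sum_erase_add _ _ (Finset.mem_univ j)]
      exact sh_smul (SetLike.prod_mem_graded 𝒜 jj (fun l => (s l).1) fun l _ => (s l).2) (hash j)
    have hWs : ∀ j, W ≤ D 𝒜 (s j).1 := fun j y hy => (Proj.mem_basicOpen _ _ _).2 (nin j ⟨y, hWj j hy⟩)
    have hWS : W ≤ D 𝒜 S := fun y hy => (Proj.mem_basicOpen _ _ _).2 fun hm => by
      obtain ⟨j, -, hj⟩ := ((y : ProjectiveSpectrum 𝒜).isPrime.prod_mem_iff).1 hm
      exact notMem_of_le (hWs j) hy hj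
    have hWU : W ≤ U := inf_le_left.trans hV
    refine ⟨W, hWU, gen q hv hS W hWS, hxW, ?_⟩
    have hr : Rel q (gen q hv hS W hWS) (val q v hv S hS W hWS) := fun y hy =>
      ⟨W, le_rfl, _, v, hv, S, hS, hWS, hy, fun _ _ => rfl, rs_self F _ _⟩
    refine ((hφ W _).unique q hr).trans ?_
    have e := congrArg (rs F (inf_le_left : W ≤ V)) hg
    rw [rs_rs] at e
    refine Eq.trans ?_ e.symm
    refine Eq.trans ?_ (map_sum _ _ _).symm
    refine Finset.sum_congr rfl fun j _ => Eq.trans ?_ (Groth.L18.IsoCover.app_rs' (q j) inf_le_left (w j))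
    refine congrArg ((q j).app W) (Subtype.ext (funext fun y => Subtype.ext ?_))
    refine Eq.trans ?_ (hw j ⟨y.1, hWj j y.2⟩).symm
    show Localization.mk (v j) ⟨S, _⟩ = Localization.mk (a j).1 ⟨(s j).1, _⟩
    rw [Localization.mk_eq_mk_iff, Localization.r_iff_exists]
    refine ⟨1, ?_⟩
    show 1 * ((s j).1 * v j) = 1 * (S * (a j).1)
    simp only [v, S, ← Finset.mul_prod_erase Finset.univ (fun l => (s l).1) (Finset.mem_univ j)]
    ring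
  have : IsIso φ := Scheme.Modules.Hom.isIso_iff_isIso_app.2 fun U =>
    (ConcreteCategory.isIso_iff_bijective _).2 ⟨hinj U, fun g => by
      choose W hW f hxW hf using fun x : U => key U g x x.2
      let OT : TopCat.Sheaf Ab.{u} (Proj 𝒜).toTopCat :=
        ⟨(GrTilde.tilde 𝒜 (gr q) 0).presheaf, (GrTilde.tilde 𝒜 (gr q) 0).isSheaf⟩
      have hc : U ≤ iSup W := fun x hx => Opens.mem_iSup.mpr ⟨⟨x, hx⟩, hxW _⟩
      obtain ⟨f₀, hf₀, -⟩ := OT.existsUnique_gluing' W U (fun x => homOfLE (hW x)) hc f fun k l => by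
        refine hinj _ ?_
        show φ.app _ (rs (GrTilde.tilde 𝒜 (gr q) 0) inf_le_left (f k)) =
          φ.app _ (rs (GrTilde.tilde 𝒜 (gr q) 0) inf_le_right (f l))
        refine (Groth.L18.IsoCover.app_rs' φ (inf_le_left : W k ⊓ W l ≤ W k) (f k)).trans (Eq.trans ?_
          (Groth.L18.IsoCover.app_rs' φ (inf_le_right : W k ⊓ W l ≤ W l) (f l)).symm)
        refine (congrArg (rs F _) (hf k)).trans (Eq.trans ?_ (congrArg (rs F _) (hf l)).symm)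
        rw [rs_rs, rs_rs]
      let OM : TopCat.Sheaf Ab.{u} (Proj 𝒜).toTopCat := ⟨F.presheaf, F.isSheaf⟩
      refine ⟨f₀, OM.eq_of_locally_eq' W U (fun x => homOfLE (hW x)) hc _ g fun k => ?_⟩
      show rs F (hW k) (φ.app U f₀) = rs F (hW k) g
      refine (Groth.L18.IsoCover.app_rs' φ (hW k) f₀).symm.trans ?_
      exact (congrArg (φ.app (W k)) (hf₀ k)).trans (hf k)⟩
  exact ⟨@asIso _ _ _ _ φ this⟩

end Groth.Lead.GrPres
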