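import Groth.Agent.Lead.GrPres.Val
import Groth.Agent.L18.GradedMod

/-!
The graded module cut out by the evaluation of fractions.
-/

set_option autoImplicit false
set_option linter.style.haveILetI false
set_option linter.unusedSectionVars false
set_option backward.defeqAttrib.useBackward true
set_option backward.isDefEq.respectTransparency false
set_option backward.isDefEq.respectTransparency.types false

universe u

open CategoryTheory AlgebraicGeometry TopologicalSpace Opposite DirectSum

noncomputable section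

namespace Groth.Lead.GrPres

variable {R A : Type u} [CommRing R] [CommRing A] [Algebra R A] {𝒜 : ℕ → Submodule R A} [GradedAlgebra 𝒜]
variable {b : ℕ} {r : ℕ}

instance free_gradedSMul : SetLike.GradedSMul 𝒜 (free 𝒜 b r) := ⟨by intro i j c v hc hv; exact free_smul hc hv⟩

theorem single_mem {k : ℕ} {a : A} (ha : a ∈ 𝒜 k) (j : Fin r) : Pi.single j a ∈ free 𝒜 b r (k + b) :=
  free_mem.2 fun i => by
    rcases eq_or_ne i j with rfl | h
    · rw [Pi.single_eq_same]; exact mem_sh ha (Or.inl rfl)
    · rw [Pi.single_eq_of_ne h]; exact zero_mem _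

variable (𝒜 b) in
/-- homogeneous elements of one coordinate -/
def singlePart (j : Fin r) (k : ℕ) : 𝒜 k →+ ⨁ n, free 𝒜 b r n :=
  (DirectSum.of (fun n => free 𝒜 b r n) (k + b)).comp
    { toFun := fun a => ⟨Pi.single j a.1, single_mem a.2 j⟩
      map_zero' := Subtype.ext (Pi.single_zero j)
      map_add' := fun a a' => by
        apply Subtype.ext
        funext i
        rcases eq_or_ne i j with rfl | h <;> simp [*] }

theorem of_congr {M : Type u} [AddCommGroup M] [Module R M] (ℳ : ℕ → Submodule R M) {n n' : ℕ} (h : n = n')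
    {x : M} (hx : x ∈ ℳ n) (hx' : x ∈ ℳ n') :
    DirectSum.of (fun i => ℳ i) n ⟨x, hx⟩ = DirectSum.of (fun i => ℳ i) n' ⟨x, hx'⟩ := by
  subst h; rfl

variable (𝒜 b r) in
/-- decomposition of the free module -/
def freeDecompose : (Fin r → A) →+ ⨁ n, free 𝒜 b r n :=
  ∑ j : Fin r, ((DirectSum.toAddMonoid (singlePart 𝒜 b j)).comp
    (DirectSum.decomposeAddEquiv 𝒜).toAddMonoidHom).comp (Pi.evalAddMonoidHom (fun _ => A) j)

theorem freeDecompose_apply (v : Fin r → A) :
    freeDecompose 𝒜 b r v = ∑ j, DirectSum.toAddMonoid (singlePart 𝒜 b j) (DirectSum.decompose 𝒜 (v j)) := by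
  rw [freeDecompose, AddMonoidHom.finset_sum_apply]
  rfl

instance freeDecomposition : DirectSum.Decomposition (free 𝒜 b r) where
  decompose' := freeDecompose 𝒜 b r
  left_inv v := by
    rw [freeDecompose_apply, map_sum]
    refine (Finset.sum_congr rfl fun j _ => ?_).trans (Finset.univ_sum_single v)
    induction v j using DirectSum.Decomposition.inductionOn 𝒜 with
    | zero => rw [DirectSum.decompose_zero, map_zero, map_zero, Pi.single_zero]
    | homogeneous a =>
      rw [DirectSum.decompose_coe, DirectSum.toAddMonoid_of, singlePart, AddMonoidHom.comp_apply,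
        DirectSum.coeAddMonoidHom_of]
      rfl
    | add a a' ha ha' => rw [DirectSum.decompose_add, map_add, map_add, ha, ha', Pi.single_add]
  right_inv z := by
    induction z using DirectSum.induction_on with
    | zero => simp
    | add a a' ha ha' => rw [map_add, map_add, ha, ha']
    | of n v =>
      rw [DirectSum.coeAddMonoidHom_of, freeDecompose_apply]
      have hj : ∀ j, DirectSum.toAddMonoid (singlePart 𝒜 b j) (DirectSum.decompose 𝒜 (v.1 j)) =
          DirectSum.of (fun n => free 𝒜 b r n) n ⟨Pi.single j (v.1 j), free_mem.2 fun i => by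
            rcases eq_or_ne i j with rfl | h
            · rw [Pi.single_eq_same]; exact free_mem.1 v.2 i
            · rw [Pi.single_eq_of_ne h]; exact zero_mem _⟩ := fun j => by
        obtain ⟨h1, h2⟩ := sh_mem (free_mem.1 v.2 j)
        rw [DirectSum.decompose_of_mem 𝒜 h1, DirectSum.toAddMonoid_of]
        show DirectSum.of (fun n => free 𝒜 b r n) (n - b + b) ⟨Pi.single j (v.1 j), single_mem h1 j⟩ = _
        rcases h2 with h | h
        · exact of_congr (free 𝒜 b r) (Nat.sub_add_cancel h) _ _
        · refine (congrArg _ (?_ : _ = (0 : free 𝒜 b r _))).trans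
            ((map_zero _).trans ((congrArg _ (?_ : _ = (0 : free 𝒜 b r _))).trans (map_zero _)).symm)
          · exact Subtype.ext (show (Pi.single j (v.1 j) : Fin r → A) = 0 by rw [h, Pi.single_zero])
          · exact Subtype.ext (show (Pi.single j (v.1 j) : Fin r → A) = 0 by rw [h, Pi.single_zero])
      rw [Finset.sum_congr rfl fun j _ => hj j, ← map_sum]
      refine congrArg _ (Subtype.ext ?_)
      rw [Submodule.coe_sum]
      exact Finset.univ_sum_single v.1

variable {F : (Proj 𝒜).Modules} (q : Fin r → (Twist.twist 𝒜 (-(b : ℤ)) ⟶ F))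

/-- homogeneous elements giving zero -/
def Kill (n : ℕ) (v : Fin r → A) : Prop :=
  ∃ hv : v ∈ free 𝒜 b r n, ∀ (k : ℕ) (h : A) (hh : h ∈ 𝒜 k) (t : A) (ht : t ∈ 𝒜 (k + n)),
    val q (h • v) (free_smul hh hv) t ht (D 𝒜 t) le_rfl = 0

theorem kill_zero (n : ℕ) : Kill q n 0 := ⟨zero_mem _, fun k h hh t ht =>
  (val_ext q _ (zero_mem _) ht ht le_rfl le_rfl (by rw [smul_zero])).trans (val_zero q ht le_rfl)⟩

theorem Kill.add {n : ℕ} {v v' : Fin r → A} (h : Kill q n v) (h' : Kill q n v') : Kill q n (v + v') :=
  ⟨add_mem h.1 h'.1, fun k c hc t ht => by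
    refine (val_ext q _ (add_mem (free_smul hc h.1) (free_smul hc h'.1)) ht ht le_rfl le_rfl
      (by rw [smul_add])).trans ?_
    rw [val_add q (free_smul hc h.1) (free_smul hc h'.1), h.2 k c hc t ht, h'.2 k c hc t ht, add_zero]⟩

theorem Kill.smul {n k : ℕ} {v : Fin r → A} (h : Kill q n v) {c : A} (hc : c ∈ 𝒜 k) :
    Kill q (k + n) (c • v) :=
  ⟨free_smul hc h.1, fun l e he t ht => by
    have ht' : t ∈ 𝒜 (l + k + n) := by rw [add_assoc]; exact ht
    refine (val_ext q _ (free_smul (SetLike.mul_mem_graded he hc) h.1) ht ht' le_rfl le_rfl (by rw [mul_smul])).trans ?_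
    exact h.2 (l + k) (e * c) (SetLike.mul_mem_graded he hc) t ht'⟩

/-- the relations -/
def rel : Submodule A (Fin r → A) := Submodule.span A {v | ∃ n, Kill q n v}

theorem kill_of_mem {v : Fin r → A} (hv : v ∈ rel q) (n : ℕ) :
    Kill q n (DirectSum.decompose (free 𝒜 b r) v n) := by
  induction hv using Submodule.closure_induction with
  | zero => simpa using kill_zero q n
  | add x y _ _ hx hy => simpa [DirectSum.decompose_add] using hx.add q hy
  | smul_mem c x hx =>
    obtain ⟨m, hm⟩ := hx
    rw [Groth.L18.decompose_smul_of_mem 𝒜 (free 𝒜 b r) hm.1 c n]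
    split
    · next h =>
      have := hm.smul q (Groth.L18.proj_mem 𝒜 c (n - m))
      rwa [Nat.sub_add_cancel h] at this
    · exact kill_zero q n

/-- the presented module -/
abbrev Quot' : Type u := (Fin r → A) ⧸ rel q

/-- its grading -/
def gr (n : ℕ) : Submodule R (Quot' q) := (free 𝒜 b r n).map ((rel q).mkQ.restrictScalars R)

theorem mk_mem {n : ℕ} {v : Fin r → A} (hv : v ∈ free 𝒜 b r n) : (rel q).mkQ v ∈ gr q n := ⟨v, hv, rfl⟩

instance gr_gradedSMul : SetLike.GradedSMul 𝒜 (gr q) :=
  ⟨by
    intro i j c z hc hz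
    obtain ⟨v, hv, rfl⟩ := hz
    exact ⟨c • v, free_smul hc hv, map_smul (rel q).mkQ c v⟩⟩

/-- decomposition followed by projection -/
def quotDecompose : (Fin r → A) →+ ⨁ n, gr q n :=
  (DirectSum.toAddMonoid fun n => (DirectSum.of (fun n => gr q n) n).comp
    { toFun := fun v : free 𝒜 b r n => (⟨(rel q).mkQ v.1, mk_mem q v.2⟩ : gr q n)
      map_zero' := Subtype.ext (map_zero _)
      map_add' := fun v v' => Subtype.ext (map_add _ _ _) }).comp
    (DirectSum.decomposeAddEquiv (free 𝒜 b r)).toAddMonoidHom

theorem quotDecompose_eq_zero {v : Fin r → A} (hv : v ∈ rel q) : quotDecompose q v = 0 := by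
  show DirectSum.toAddMonoid _ (DirectSum.decompose (free 𝒜 b r) v) = 0
  classical
  conv_lhs => rw [← DirectSum.sum_support_of (DirectSum.decompose (free 𝒜 b r) v)]
  rw [map_sum]
  refine Finset.sum_eq_zero fun n _ => ?_
  rw [DirectSum.toAddMonoid_of]
  refine (congrArg (DirectSum.of (fun n => gr q n) n) (Subtype.ext ?_ : _ = (0 : gr q n))).trans (map_zero _)
  exact (Submodule.Quotient.mk_eq_zero _).2 (Submodule.subset_span ⟨n, kill_of_mem q hv n⟩)

instance quotDecomposition : DirectSum.Decomposition (gr q) where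
  decompose' := QuotientAddGroup.lift (rel q).toAddSubgroup (quotDecompose q) fun _ hv => quotDecompose_eq_zero q hv
  left_inv z := by
    obtain ⟨v, rfl⟩ := Submodule.Quotient.mk_surjective _ z
    show DirectSum.coeAddMonoidHom (gr q) (quotDecompose q v) = _
    induction v using DirectSum.Decomposition.inductionOn (free 𝒜 b r) with
    | zero => simp
    | homogeneous a =>
      show DirectSum.coeAddMonoidHom (gr q) (DirectSum.toAddMonoid _ (DirectSum.decompose (free 𝒜 b r) a.1)) = _
      rw [DirectSum.decompose_coe, DirectSum.toAddMonoid_of]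
      exact DirectSum.coeAddMonoidHom_of (gr q) _ _
    | add a a' ha ha' => rw [map_add, map_add, ha, ha']; rfl
  right_inv z := by
    induction z using DirectSum.induction_on with
    | zero => simp
    | add a a' ha ha' => rw [map_add, map_add, ha, ha']
    | of n w =>
      rw [DirectSum.coeAddMonoidHom_of]
      obtain ⟨w, ⟨v, hv, rfl⟩⟩ := w
      show DirectSum.toAddMonoid _ (DirectSum.decompose (free 𝒜 b r) v) = _
      rw [DirectSum.decompose_of_mem (free 𝒜 b r) hv, DirectSum.toAddMonoid_of]
      rfl

end Groth.Lead.GrPres
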