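import Groth.Agent.L18.GrTildeQCoh
import Groth.Agent.L16.ProjSpace.TwistMul
import Groth.Agent.L18.Frame
import Groth.Agent.L18.IsoCover

/-!
Evaluation of homogeneous fractions with values in a module receiving maps from a negative twist.
-/

set_option autoImplicit false
set_option linter.style.haveILetI false
set_option linter.unusedSectionVars false
set_option backward.defeqAttrib.useBackward true
set_option backward.isDefEq.respectTransparency false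
set_option backward.isDefEq.respectTransparency.types false

universe u

open CategoryTheory AlgebraicGeometry TopologicalSpace Opposite

noncomputable section

namespace Groth.Lead.GrPres

open Groth.L18.Frame (rs ro rs_rs)

variable {R A : Type u} [CommRing R] [CommRing A] [Algebra R A] (𝒜 : ℕ → Submodule R A) [GradedAlgebra 𝒜]
variable (b : ℕ)

/-- the degree `n` part of `A(-b)` -/
def sh (n : ℕ) : Submodule R A := if b ≤ n then 𝒜 (n - b) else ⊥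

variable {𝒜 b}

theorem sh_mem {n : ℕ} {a : A} (ha : a ∈ sh 𝒜 b n) : a ∈ 𝒜 (n - b) ∧ (b ≤ n ∨ a = 0) := by
  unfold sh at ha
  split at ha
  · exact ⟨ha, Or.inl ‹_›⟩
  · rw [Submodule.mem_bot] at ha; subst ha; exact ⟨zero_mem _, Or.inr rfl⟩

theorem mem_sh {n i : ℕ} {a : A} (ha : a ∈ 𝒜 i) (h : i + b = n ∨ a = 0) : a ∈ sh 𝒜 b n := by
  rcases h with rfl | rfl
  · rw [sh, if_pos (Nat.le_add_left _ _), Nat.add_sub_cancel]; exact ha
  · exact zero_mem _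

theorem sh_smul {k n : ℕ} {c a : A} (hc : c ∈ 𝒜 k) (ha : a ∈ sh 𝒜 b n) : c * a ∈ sh 𝒜 b (k + n) := by
  obtain ⟨h1, h2⟩ := sh_mem ha
  refine mem_sh (SetLike.mul_mem_graded hc h1) ?_
  rcases h2 with h | h
  · exact Or.inl (by omega)
  · exact Or.inr (by rw [h, mul_zero])

variable (𝒜) in
/-- the locus where `s` does not vanish -/
abbrev D (s : A) : (Proj 𝒜).Opens := Proj.basicOpen 𝒜 s

theorem notMem_of_le {W : (Proj 𝒜).Opens} {s : A} (hW : W ≤ D 𝒜 s) {y : Proj 𝒜} (hy : y ∈ W) :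
    s ∉ (y : ProjectiveSpectrum 𝒜).asHomogeneousIdeal := (Proj.mem_basicOpen _ _ _).1 (hW hy)

theorem mem_twistAt {n : ℕ} {a s : A} (ha : a ∈ sh 𝒜 b n) (hs : s ∈ 𝒜 n) (y : ProjectiveSpectrum 𝒜)
    (hy : s ∉ y.asHomogeneousIdeal) :
    Localization.mk a ⟨s, hy⟩ ∈ Twist.twistAt 𝒜 (-(b : ℤ)) y := by
  rcases (sh_mem ha).2 with h | h
  · exact Submodule.subset_span ⟨n - b, n, ⟨a, (sh_mem ha).1⟩, ⟨s, hs⟩, hy, by omega, rfl⟩
  · subst h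
    rw [Localization.mk_zero]
    exact zero_mem _

/-- the section `a / s` of `O(-b)` -/
def frac {n : ℕ} (a : A) (ha : a ∈ sh 𝒜 b n) (s : A) (hs : s ∈ 𝒜 n) (W : (Proj 𝒜).Opens) (hW : W ≤ D 𝒜 s) :
    Γ(Twist.twist 𝒜 (-(b : ℤ)), W) :=
  (⟨fun y => ⟨Localization.mk a ⟨s, notMem_of_le hW y.2⟩, mem_twistAt ha hs y.1 _⟩,
    fun y => ⟨W, y.2, 𝟙 _, n - b, n, ⟨a, (sh_mem ha).1⟩, ⟨s, hs⟩, fun z => notMem_of_le hW z.2,
      (sh_mem ha).2.imp (fun h => by omega) id, fun _ => rfl⟩⟩ : Twist.sectN (-(b : ℤ)) (op W))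

theorem frac_ext {n n' : ℕ} {a a' s s' : A} (ha : a ∈ sh 𝒜 b n) (ha' : a' ∈ sh 𝒜 b n') (hs : s ∈ 𝒜 n)
    (hs' : s' ∈ 𝒜 n') {W : (Proj 𝒜).Opens} (hW : W ≤ D 𝒜 s) (hW' : W ≤ D 𝒜 s') (h : s' * a = s * a') :
    frac a ha s hs W hW = frac a' ha' s' hs' W hW' := by
  refine Subtype.ext (funext fun y => Subtype.ext ?_)
  show Localization.mk a _ = Localization.mk a' _
  rw [Localization.mk_eq_mk_iff, Localization.r_iff_exists]
  exact ⟨1, congrArg (1 * ·) h⟩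

theorem rs_frac {n : ℕ} {a s : A} (ha : a ∈ sh 𝒜 b n) (hs : s ∈ 𝒜 n) {W V : (Proj 𝒜).Opens} (hW : W ≤ D 𝒜 s)
    (h : V ≤ W) : rs (Twist.twist 𝒜 (-(b : ℤ))) h (frac a ha s hs W hW) = frac a ha s hs V (h.trans hW) := rfl

theorem frac_add {n : ℕ} {a a' s : A} (ha : a ∈ sh 𝒜 b n) (ha' : a' ∈ sh 𝒜 b n) (hs : s ∈ 𝒜 n)
    {W : (Proj 𝒜).Opens} (hW : W ≤ D 𝒜 s) :
    frac (a + a') (add_mem ha ha') s hs W hW = frac a ha s hs W hW + frac a' ha' s hs W hW :=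
  Subtype.ext (funext fun y => Subtype.ext (Localization.add_mk_self a _ a').symm)

theorem frac_smul {n k : ℕ} {a s r t : A} (ha : a ∈ sh 𝒜 b n) (hs : s ∈ 𝒜 n) (hr : r ∈ 𝒜 k) (ht : t ∈ 𝒜 k)
    {W : (Proj 𝒜).Opens} (hW : W ≤ D 𝒜 s) (hW' : W ≤ D 𝒜 (t * s)) (c : Γ(Proj 𝒜, W))
    (hc : ∀ y : W, ∃ h : t ∉ (y.1 : ProjectiveSpectrum 𝒜).asHomogeneousIdeal,
      (c.1 y).val = Localization.mk r ⟨t, h⟩) :
    c • frac a ha s hs W hW = frac (r * a) (sh_smul hr ha) (t * s) (SetLike.mul_mem_graded ht hs) W hW' := by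
  refine Subtype.ext (funext fun y => Subtype.ext ?_)
  obtain ⟨h, e⟩ := hc y
  refine (Twist.coe_smul_val (-(b : ℤ)) y.1 (c.1 y) _).trans ?_
  rw [e]
  exact Localization.mk_mul _ _ _ _

variable {F : (Proj 𝒜).Modules} {r : ℕ} (q : Fin r → (Twist.twist 𝒜 (-(b : ℤ)) ⟶ F))

variable (𝒜 b r) in
/-- the degree `n` part of the free module -/
def free (n : ℕ) : Submodule R (Fin r → A) := Submodule.pi Set.univ fun _ => sh 𝒜 b n

theorem free_mem {n : ℕ} {v : Fin r → A} : v ∈ free 𝒜 b r n ↔ ∀ j, v j ∈ sh 𝒜 b n := by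
  simp [free, Submodule.mem_pi]

theorem free_smul {k n : ℕ} {c : A} (hc : c ∈ 𝒜 k) {v : Fin r → A} (hv : v ∈ free 𝒜 b r n) :
    c • v ∈ free 𝒜 b r (k + n) := free_mem.2 fun j => sh_smul hc (free_mem.1 hv j)

/-- the value of `v / s` -/
def val {n : ℕ} (v : Fin r → A) (hv : v ∈ free 𝒜 b r n) (s : A) (hs : s ∈ 𝒜 n) (W : (Proj 𝒜).Opens)
    (hW : W ≤ D 𝒜 s) : Γ(F, W) :=
  ∑ j, (q j).app W (frac (v j) (free_mem.1 hv j) s hs W hW)

theorem val_ext {n n' : ℕ} {v v' : Fin r → A} {s s' : A} (hv : v ∈ free 𝒜 b r n) (hv' : v' ∈ free 𝒜 b r n')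
    (hs : s ∈ 𝒜 n) (hs' : s' ∈ 𝒜 n') {W : (Proj 𝒜).Opens} (hW : W ≤ D 𝒜 s) (hW' : W ≤ D 𝒜 s')
    (h : s' • v = s • v') : val q v hv s hs W hW = val q v' hv' s' hs' W hW' :=
  Finset.sum_congr rfl fun j _ => congrArg _ (frac_ext _ _ hs hs' hW hW' (congrFun h j))

theorem rs_val {n : ℕ} {v : Fin r → A} {s : A} (hv : v ∈ free 𝒜 b r n) (hs : s ∈ 𝒜 n) {W V : (Proj 𝒜).Opens}
    (hW : W ≤ D 𝒜 s) (h : V ≤ W) : rs F h (val q v hv s hs W hW) = val q v hv s hs V (h.trans hW) :=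
  (map_sum _ _ _).trans (Finset.sum_congr rfl fun j _ => (Groth.L18.IsoCover.app_rs' (q j) h _).symm)

theorem val_add {n : ℕ} {v v' : Fin r → A} {s : A} (hv : v ∈ free 𝒜 b r n) (hv' : v' ∈ free 𝒜 b r n)
    (hs : s ∈ 𝒜 n) {W : (Proj 𝒜).Opens} (hW : W ≤ D 𝒜 s) :
    val q (v + v') (add_mem hv hv') s hs W hW = val q v hv s hs W hW + val q v' hv' s hs W hW := by
  rw [val, val, val, ← Finset.sum_add_distrib]
  exact Finset.sum_congr rfl fun j _ =>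
    (congrArg _ (frac_add (free_mem.1 hv j) (free_mem.1 hv' j) hs hW)).trans (map_add _ _ _)

theorem val_zero {n : ℕ} {s : A} (hs : s ∈ 𝒜 n) {W : (Proj 𝒜).Opens} (hW : W ≤ D 𝒜 s) :
    val q (0 : Fin r → A) (zero_mem _) s hs W hW = 0 := by
  have h := val_add q (zero_mem (free 𝒜 b r n)) (zero_mem _) hs hW
  simp only [add_zero] at h
  exact left_eq_add.mp h

theorem val_smul {n k : ℕ} {v : Fin r → A} {s c₁ c₂ : A} (hv : v ∈ free 𝒜 b r n) (hs : s ∈ 𝒜 n)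
    (h₁ : c₁ ∈ 𝒜 k) (h₂ : c₂ ∈ 𝒜 k) {W : (Proj 𝒜).Opens} (hW : W ≤ D 𝒜 s) (hW' : W ≤ D 𝒜 (c₂ * s))
    (c : Γ(Proj 𝒜, W))
    (hc : ∀ y : W, ∃ h : c₂ ∉ (y.1 : ProjectiveSpectrum 𝒜).asHomogeneousIdeal,
      (c.1 y).val = Localization.mk c₁ ⟨c₂, h⟩) :
    c • val q v hv s hs W hW =
      val q (c₁ • v) (free_smul h₁ hv) (c₂ * s) (SetLike.mul_mem_graded h₂ hs) W hW' := by
  rw [val, val, Finset.smul_sum]
  exact Finset.sum_congr rfl fun j _ =>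
    ((q j).app_smul c _).symm.trans (congrArg _ (frac_smul (free_mem.1 hv j) hs h₁ h₂ hW hW' c hc))

variable (𝒜) in
/-- the function `a / t` of degree zero -/
def fn {k : ℕ} (a t : A) (ha : a ∈ 𝒜 k) (ht : t ∈ 𝒜 k) (W : (Proj 𝒜).Opens) (hW : W ≤ D 𝒜 t) :
    Γ(Proj 𝒜, W) :=
  (⟨fun y => HomogeneousLocalization.mk ⟨k, ⟨a, ha⟩, ⟨t, ht⟩, notMem_of_le hW y.2⟩,
    fun y => ⟨W, y.2, 𝟙 _, k, ⟨a, ha⟩, ⟨t, ht⟩, fun z => notMem_of_le hW z.2, fun _ => rfl⟩⟩ :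
    Twist.O (op W))

theorem fn_val {k : ℕ} {a t : A} (ha : a ∈ 𝒜 k) (ht : t ∈ 𝒜 k) {W : (Proj 𝒜).Opens} (hW : W ≤ D 𝒜 t)
    (y : W) : ∃ h : t ∉ (y.1 : ProjectiveSpectrum 𝒜).asHomogeneousIdeal,
      ((fn 𝒜 a t ha ht W hW).1 y).val = Localization.mk a ⟨t, h⟩ :=
  ⟨notMem_of_le hW y.2, HomogeneousLocalization.val_mk _⟩

theorem fn_pow_val {k : ℕ} {a t : A} (ha : a ∈ 𝒜 k) (ht : t ∈ 𝒜 k) {W : (Proj 𝒜).Opens} (hW : W ≤ D 𝒜 t)
    (N : ℕ) (y : W) : ∃ h : t ^ N ∉ (y.1 : ProjectiveSpectrum 𝒜).asHomogeneousIdeal,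
      ((fn 𝒜 a t ha ht W hW ^ N).1 y).val = Localization.mk (a ^ N) ⟨t ^ N, h⟩ := by
  refine ⟨Groth.L16.ProjTwist.notMem_pow 𝒜 (notMem_of_le hW y.2) N, ?_⟩
  show (((fn 𝒜 a t ha ht W hW).1 y) ^ N).val = _
  rw [HomogeneousLocalization.val_pow, (fn_val ha ht hW y).2, Localization.mk_pow]
  rfl

/-- the locus where `a / t` is invertible lies in `D(a)` -/
theorem basicOpen_fn_le {k : ℕ} {a t : A} (ha : a ∈ 𝒜 k) (ht : t ∈ 𝒜 k) {W : (Proj 𝒜).Opens} (hW : W ≤ D 𝒜 t) :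
    (Proj 𝒜).basicOpen (fn 𝒜 a t ha ht W hW) ≤ D 𝒜 a := by
  intro y hy
  refine (Proj.mem_basicOpen _ _ _).2 fun hay => ?_
  set e := fn 𝒜 a t ha ht W hW
  have hyW : y ∈ W := (Proj 𝒜).basicOpen_le e hy
  obtain ⟨d, hd⟩ := (RingedSpace.isUnit_res_basicOpen (Proj 𝒜).toRingedSpace e).exists_right_inv
  have h1 : (e.1 ⟨y, hyW⟩) * ((d : Twist.O (op ((Proj 𝒜).basicOpen e))).1 ⟨y, hy⟩) = 1 :=
    congrFun (congrArg Subtype.val hd) ⟨y, hy⟩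
  obtain ⟨⟨i, ⟨u, hu⟩, ⟨w, hw⟩, hwy⟩, hd'⟩ :=
    ((d : Twist.O (op ((Proj 𝒜).basicOpen e))).1 ⟨y, hy⟩).mk_surjective
  rw [← hd'] at h1
  have h2 := congrArg HomogeneousLocalization.val h1
  rw [HomogeneousLocalization.val_mul, HomogeneousLocalization.val_one, (fn_val ha ht hW ⟨y, hyW⟩).2,
    HomogeneousLocalization.val_mk, Localization.mk_mul, ← Localization.mk_one, Localization.mk_eq_mk_iff,
    Localization.r_iff_exists] at h2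
  obtain ⟨c, hc⟩ := h2
  simp only [Submonoid.coe_mul, OneMemClass.coe_one, one_mul, mul_one] at hc
  have hmem : (c : A) * (t * w) ∈ (y : ProjectiveSpectrum 𝒜).asHomogeneousIdeal.toIdeal := by
    rw [← hc]
    exact Ideal.mul_mem_left _ _ (Ideal.mul_mem_right _ _ hay)
  rcases (y : ProjectiveSpectrum 𝒜).isPrime.mem_or_mem hmem with h | h
  · exact c.2 h
  · rcases (y : ProjectiveSpectrum 𝒜).isPrime.mem_or_mem h with h | h
    · exact notMem_of_le hW hyW h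
    · exact hwy h

end Groth.Lead.GrPres
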